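import Cfsg.Agent.Lib.ChevBorelTits.ParabolicFStar
import Cfsg.Agent.Lib.ChevStructure.BN

/-!
The hypotheses of the Borel–Tits files, supplied by the (B, N)-pair.
-/

set_option autoImplicit false
set_option linter.unusedSectionVars false

namespace Cfsg.Agent.Lib.ChevBorelTits

open Cfsg.Lie
open Cfsg.Agent.Lib.ChevStructure
open DoubleCoset
open scoped MatrixGroups Matrix

variable {D : ChevalleyDatum} {C : Core D} (H : CommOK C) (F : Type*) [Field F]
include H

theorem bruHyp : BruHyp C F := by
  intro g hg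
  obtain ⟨n, hn, h⟩ := H.exists_bruhat hg
  obtain ⟨a, ha, b, hb, e⟩ := mem_doubleCoset.1 h
  exact ⟨n, hn, a, ha, b, hb, e⟩

theorem parHyp : ParHyp C F := fun M h1 h2 => le_of_eq (H.eq_parabolic_of_borel_le h1 h2)

end Cfsg.Agent.Lib.ChevBorelTits
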