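import Cfsg.Agent.Lib.ChevBorelTits.Form
import Cfsg.Agent.Lib.ChevStructure.Torus

/-!
The filtration subgroups UF z c generated by the root subgroups with value at least c, their
intersections, and the action of monomial elements on them.
-/

set_option autoImplicit false
set_option linter.unusedSectionVars false

namespace Cfsg.Agent.Lib.ChevBorelTits

open Cfsg.Lie
open Cfsg.Agent.Lib.ChevStructure
open scoped MatrixGroups Matrix

variable {D : ChevalleyDatum} (C : Core D) (F : Type*) [Field F]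

/-- the group generated by the root subgroups of value at least c -/
def UF (z : Fin D.rank → ℝ) (c : ℝ) : Subgroup (GL D.Idx F) := C.US F {r | c ≤ val C z r}

/-- value at a basis vector -/
def wv (z : Fin D.rank → ℝ) (a : D.Idx) : ℝ := ∑ m, (C.wt a m : ℝ) * z m

theorem wv_inl (z : Fin D.rank → ℝ) (j : Fin D.rank) : wv C z (Sum.inl j) = 0 := by simp [wv, Core.wt]

theorem wv_inr (z : Fin D.rank → ℝ) (r : Rt D) : wv C z (Sum.inr r) = val C z r := rfl

theorem UF_entry {z : Fin D.rank → ℝ} {c : ℝ} (hc : 0 ≤ c) {g : GL D.Idx F} (hg : g ∈ UF C F z c) :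
    ∀ a b, ((g : Matrix D.Idx D.Idx F) - 1) a b ≠ 0 → wv C z b + c ≤ wv C z a := by
  classical
  let P : Matrix D.Idx D.Idx F → Prop := fun M => ∀ a b, M a b ≠ 0 → wv C z b + c ≤ wv C z a
  have hX : ∀ r, c ≤ val C z r → ∀ t : F, P (xI D F r t - 1) := by
    intro r hr t a b hab
    have e : xI D F r t - 1 = ∑ k ∈ Finset.range 3, t ^ (k + 1) • Ek D F (k + 1) r := by
      rw [xI, Finset.sum_range_succ' _ 3, C.Ek_zero]
      simp
    rw [e, Matrix.sum_apply] at hab
    obtain ⟨k, -, hk⟩ := Finset.exists_ne_zero_of_sum_ne_zero hab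
    have hE : E D (k + 1) r a b ≠ 0 := fun h0 => hk (by simp [Ek, h0])
    have hw := C.E_weight (k + 1) r a b hE
    have hv : wv C z a = wv C z b + ((k + 1 : ℕ) : ℝ) * val C z r := by
      simp only [wv, val, hw, Pi.add_apply, Pi.smul_apply, smul_eq_mul, Int.cast_add, Int.cast_mul,
        Finset.mul_sum, ← Finset.sum_add_distrib]
      exact Finset.sum_congr rfl fun m _ => by push_cast; ring
    rw [hv]
    have : val C z r ≤ ((k + 1 : ℕ) : ℝ) * val C z r :=
      le_mul_of_one_le_left (le_trans hc hr) (by push_cast; linarith [Nat.cast_nonneg (α := ℝ) k])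
    linarith
  show P ((g : Matrix D.Idx D.Idx F) - 1)
  induction hg using Subgroup.closure_induction'' with
  | one => intro a b h; simp at h
  | mem x hx =>
    obtain ⟨r, hr, t, rfl⟩ := hx
    exact hX r hr t
  | inv_mem x hx =>
    obtain ⟨r, hr, t, rfl⟩ := hx
    rw [C.X_inv]
    exact hX r hr (-t)
  | mul x y _ _ hx hy =>
    intro a b hab
    have e : ((x * y : GL D.Idx F) : Matrix D.Idx D.Idx F) - 1 =
        ((x : Matrix D.Idx D.Idx F) - 1) * ((y : Matrix D.Idx D.Idx F) - 1)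
          + ((x : Matrix D.Idx D.Idx F) - 1) + ((y : Matrix D.Idx D.Idx F) - 1) := by
      rw [Units.val_mul]; noncomm_ring
    rw [e, Matrix.add_apply, Matrix.add_apply] at hab
    by_cases h1 : ((x : Matrix D.Idx D.Idx F) - 1) a b ≠ 0
    · exact hx a b h1
    by_cases h2 : ((y : Matrix D.Idx D.Idx F) - 1) a b ≠ 0
    · exact hy a b h2
    rw [not_ne_iff] at h1 h2
    rw [h1, h2, add_zero, add_zero, Matrix.mul_apply] at hab
    obtain ⟨i, -, hi⟩ := Finset.exists_ne_zero_of_sum_ne_zero hab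
    have := hx a i (left_ne_zero_of_mul hi)
    have := hy i b (right_ne_zero_of_mul hi)
    linarith

theorem UF_anti (z : Fin D.rank → ℝ) {c d : ℝ} (h : c ≤ d) : UF C F z d ≤ UF C F z c :=
  C.US_mono F fun _ hr => le_trans h hr

theorem pos_of_val_pos {z : Fin D.rank → ℝ} (hz : ∀ i, 0 ≤ z i) {r : Rt D} (h : 0 < val C z r) :
    r ∈ C.Pos := by
  rw [C.pos_iff_ht]
  by_contra hn
  have hne : C.ht r ≠ 0 := by
    intro h0
    have h1 : C.ht r.rev = 0 := by rw [C.ht_rev, h0, neg_zero]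
    rcases lt_trichotomy r r.rev with h' | h' | h'
    · have := C.ht_lt h'; omega
    · exact C.ne_rev r h'.symm
    · have := C.ht_lt h'; omega
  have hp : r.rev ∈ C.Pos := by rw [C.pos_iff_ht, C.ht_rev]; omega
  have := val_nonneg C hz hp
  rw [val_rev] at this
  linarith

theorem UF_le_pos {z : Fin D.rank → ℝ} (hz : ∀ i, 0 ≤ z i) {c : ℝ} (hc : 0 < c) :
    UF C F z c ≤ C.US F C.Pos :=
  C.US_mono F fun _ hr => pos_of_val_pos C hz (lt_of_lt_of_le hc hr)

theorem borel_le_normalizer (H : CommOK C) {z : Fin D.rank → ℝ} (hz : ∀ i, 0 ≤ z i) {c : ℝ} (hc : 0 < c) :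
    D.borelSubgroup F ≤ Subgroup.normalizer (UF C F z c : Set (GL D.Idx F)) := by
  rw [C.borel_eq]
  refine sup_le ((Subgroup.closure_le _).2 ?_) (C.diag_le_normalizer _)
  rintro g ⟨r, hr, t, rfl⟩
  refine H.mem_normalizer ?_ t
  refine C.absorb_of_closed (S := C.Pos) subset_rfl (fun s hs => pos_of_val_pos C hz (lt_of_lt_of_le hc hs)) ?_ hr
  intro a ha s hs q i j hi hj hv
  have h1 := val_combo C z hv
  have h2 := val_nonneg C hz ha
  have h3 : c ≤ val C z s := hs
  show c ≤ val C z q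
  rw [h1]
  push_cast
  have h4 : (0 : ℝ) ≤ (i : ℝ) * val C z a := mul_nonneg (Nat.cast_nonneg i) h2
  have h5 : val C z s ≤ (j : ℝ) * val C z s :=
    le_mul_of_one_le_left (by linarith) (by exact_mod_cast hj)
  linarith

theorem inter_aux {y : Fin D.rank → ℝ} {b : ℝ} (hb : 0 < b) :
    ∀ L : List (Rt D), L.Pairwise (· < ·) → (∀ r ∈ L, r ∈ C.Pos) → ∀ t : Rt D → F,
      C.wordX F L t ∈ UF C F y b → C.wordX F L t ∈ C.US F {r | r ∈ L ∧ b ≤ val C y r}
  | [], _, _, t, _ => by simp [Core.wordX, one_mem]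
  | k :: L, hp, hpos, t, hg => by
    obtain ⟨hk, hp'⟩ := List.pairwise_cons.1 hp
    have hkp : k ∈ C.Pos := hpos k (List.mem_cons_self ..)
    have hdef : C.wordX F (k :: L) t = C.X F k (t k) * C.wordX F L t := rfl
    have hmem : C.wordX F L t ∈ upperU F (fun a => 1 * C.fht a) (C.ht k) (C.ht_pos hkp).le := by
      refine C.US_le_upperU F _ (S := {r | r ∈ L}) (fun s hs => ?_) (C.wordX_mem F (fun s hs => hs) t)
      rw [one_mul]; exact C.ht_lt (hk s hs)
    have hkey : t k = 0 ∨ b ≤ val C y k := by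
      by_contra hcon
      rw [not_or] at hcon
      apply hcon.1
      refine C.eq_zero_of_co_mul (k := k) F fun j => ?_
      by_contra hne
      rw [← C.coord_zero F hkp hmem (t k) j, ← hdef] at hne
      have := UF_entry C F hb.le hg (Sum.inl j) (Sum.inr k.rev) (by simpa using hne)
      rw [wv_inl, wv_inr, val_rev] at this
      exact hcon.2 (by linarith)
    have hX : C.X F k (t k) ∈ UF C F y b ∧ C.X F k (t k) ∈ C.US F {r | r ∈ k :: L ∧ b ≤ val C y r} := by
      rcases hkey with h | h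
      · rw [h, C.X_zero]; exact ⟨one_mem _, one_mem _⟩
      · exact ⟨C.X_mem_US F (show k ∈ {r | b ≤ val C y r} from h) _,
          C.X_mem_US F (show k ∈ {r | r ∈ k :: L ∧ b ≤ val C y r} from ⟨List.mem_cons_self .., h⟩) _⟩
    rw [hdef] at hg ⊢
    have htail : C.wordX F L t ∈ UF C F y b := by
      have := mul_mem (inv_mem hX.1) hg
      rwa [inv_mul_cancel_left] at this
    exact mul_mem hX.2 (C.US_mono F (S := {r | r ∈ L ∧ b ≤ val C y r}) (T := {r | r ∈ k :: L ∧ b ≤ val C y r})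
      (fun r hr => ⟨List.mem_cons_of_mem _ hr.1, hr.2⟩)
      (inter_aux hb L hp' (fun r hr => hpos r (List.mem_cons_of_mem _ hr)) t htail))

theorem inter (H : CommOK C) {z y : Fin D.rank → ℝ} (hz : ∀ i, 0 ≤ z i) {a b : ℝ} (ha : 0 < a) (hb : 0 < b)
    {g : GL D.Idx F} (hg : g ∈ UF C F z a) (hg' : g ∈ UF C F y b) :
    g ∈ C.US F {r | a ≤ val C z r ∧ b ≤ val C y r} := by
  classical
  set L := C.posL.filter (fun r => decide (a ≤ val C z r)) with hL
  have hsorted : L.Pairwise (· < ·) := C.posL_sorted.filter _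
  have hmemL : ∀ r, r ∈ L ↔ r ∈ C.Pos ∧ a ≤ val C z r := fun r => by
    rw [hL, List.mem_filter, C.mem_posL, decide_eq_true_iff]
  have hset : {r | r ∈ L} = {r | a ≤ val C z r} := Set.ext fun r => by
    simp only [Set.mem_setOf_eq, hmemL]
    exact ⟨fun h => h.2, fun h => ⟨pos_of_val_pos C hz (lt_of_lt_of_le ha h), h⟩⟩
  obtain ⟨t, rfl⟩ := H.exists_word (R := F) hsorted (fun r hr => ((hmemL r).1 hr).1) (by
    intro r hr s hs q i j hi hj hv
    rw [hmemL] at hr hs ⊢
    have h1 := val_combo C z hv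
    refine ⟨H.pos_closed hr.1 hs.1 hj hv, ?_⟩
    rw [h1]
    push_cast
    have h4 : (0 : ℝ) ≤ (i : ℝ) * val C z r := mul_nonneg (Nat.cast_nonneg i) (by linarith [hr.2])
    have h5 : val C z s ≤ (j : ℝ) * val C z s :=
      le_mul_of_one_le_left (by linarith [hs.2]) (by exact_mod_cast hj)
    linarith [hs.2]) (g := g) (by rw [hset]; exact hg)
  exact C.US_mono F (S := {r | r ∈ L ∧ b ≤ val C y r}) (T := {r | a ≤ val C z r ∧ b ≤ val C y r})
    (fun r hr => ⟨((hmemL r).1 hr.1).2, hr.2⟩)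
    (inter_aux C F hb L hsorted (fun r hr => ((hmemL r).1 hr).1) t hg')

/-- n acts on the filtrations as σ -/
def Realizes (n : GL D.Idx F) (σ : Equiv.Perm (Rt D)) : Prop :=
  ∀ z c, (UF C F (move C σ z) c).map (MulAut.conj n).toMonoidHom = UF C F z c

theorem realizes_mul {n m : GL D.Idx F} {σ τ : Equiv.Perm (Rt D)} (hσ : σ ∈ W C)
    (hn : Realizes C F n σ) (hm : Realizes C F m τ) : Realizes C F (n * m) (σ * τ) := by
  intro z c
  rw [move_mul C hσ, show (MulAut.conj (n * m)).toMonoidHom =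
      (MulAut.conj n).toMonoidHom.comp (MulAut.conj m).toMonoidHom from by ext x; simp,
    ← Subgroup.map_map, hm, hn]

theorem realizes_one : Realizes C F 1 1 := by
  intro z c
  rw [move_one, show (MulAut.conj (1 : GL D.Idx F)).toMonoidHom = MonoidHom.id _ from by ext x; simp,
    Subgroup.map_id]

theorem realizes_P (i : Fin D.rank) : Realizes C F (C.P F i) (wP C i) := by
  intro z c
  have hw : wP C i ∈ W C := Subgroup.subset_closure ⟨i, rfl⟩
  rw [UF, Core.US, MonoidHom.map_closure]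
  refine congrArg Subgroup.closure (Set.ext fun g => ?_)
  constructor
  · rintro ⟨x, ⟨r, hr, t, rfl⟩, rfl⟩
    refine ⟨C.w i r, ?_, (C.η i r : F) * t, C.P_X_conj F i r t⟩
    simp only [Set.mem_setOf_eq, val_move C hw, wP_apply] at hr
    exact hr
  · rintro ⟨r, hr, t, rfl⟩
    refine ⟨C.X F (C.w i r) ((C.η i (C.w i r) : F) * t), ⟨C.w i r, ?_, _, rfl⟩, ?_⟩
    · simp only [Set.mem_setOf_eq, val_move C hw, wP_apply, C.w_w]
      exact hr
    · show C.P F i * _ * (C.P F i)⁻¹ = _
      rw [C.P_X_conj, C.w_w, ← mul_assoc, ← Int.cast_mul, C.η_mul_self, Int.cast_one, one_mul]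

theorem realizes_diag {h : GL D.Idx F} (hh : h ∈ D.diagonalSubgroup F) : Realizes C F h 1 := by
  intro z c
  rw [move_one]
  have hn := C.diag_le_normalizer {r | c ≤ val C z r} hh
  ext x
  rw [Subgroup.mem_map_equiv, MulAut.conj_symm_apply]
  exact (Subgroup.mem_normalizer_iff''.1 hn x).symm

theorem P_mem_group (i : Fin D.rank) : C.P F i ∈ D.group F := by
  have hX : ∀ r t, C.X F r t ∈ D.group F := fun r t => by
    rw [← C.sup_UV]
    rcases C.pos_or_neg r with h | h
    · exact Subgroup.mem_sup_left (Subgroup.subset_closure ⟨r.val, t, h, C.X_val_x r t⟩)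
    · exact Subgroup.mem_sup_right (Subgroup.subset_closure ⟨r.val, t, h, C.X_val_x r t⟩)
  exact mul_mem (mul_mem (hX _ _) (hX _ _)) (hX _ _)

theorem exists_realizer {σ : Equiv.Perm (Rt D)} (hσ : σ ∈ W C) :
    ∃ n ∈ D.group F, Realizes C F n σ := by
  induction hσ using Subgroup.closure_induction'' with
  | one => exact ⟨1, one_mem _, realizes_one C F⟩
  | mem x hx =>
    obtain ⟨i, rfl⟩ := hx
    exact ⟨_, P_mem_group C F i, realizes_P C F i⟩
  | inv_mem x hx =>
    obtain ⟨i, rfl⟩ := hx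
    rw [show (wP C i)⁻¹ = wP C i from Equiv.ext fun s => rfl]
    exact ⟨_, P_mem_group C F i, realizes_P C F i⟩
  | mul x y hx' _ hx hy =>
    obtain ⟨n, hn, hn'⟩ := hx
    obtain ⟨m, hm, hm'⟩ := hy
    exact ⟨n * m, mul_mem hn hm, realizes_mul C F hx' hn' hm'⟩

end Cfsg.Agent.Lib.ChevBorelTits
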