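import Cfsg.Agent.Lib.ChevStructure.Unipotent
import Mathlib.Analysis.SpecialFunctions.Pow.Real

/-!
Real functionals on the root lattice of a Chevalley datum, the invariant form
B(z, y) = Σ_r z(r) y(r), the action of the reflection group on functionals, and the fact that every
functional has a dominant translate.
-/

set_option autoImplicit false
set_option linter.unusedSectionVars false

namespace Cfsg.Agent.Lib.ChevBorelTits

open Cfsg.Lie
open Cfsg.Agent.Lib.ChevStructure

variable {D : ChevalleyDatum} (C : Core D)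

/-- the value of a functional at a root -/
def val (z : Fin D.rank → ℝ) (r : Rt D) : ℝ := ∑ m, (C.v r m : ℝ) * z m

theorem val_p (z : Fin D.rank → ℝ) (i : Fin D.rank) : val C z (C.p i) = z i := by
  simp [val, C.v_p, Pi.single_apply]

theorem val_add (z y : Fin D.rank → ℝ) (r : Rt D) : val C (z + y) r = val C z r + val C y r := by
  simp [val, mul_add, Finset.sum_add_distrib]

theorem val_sub (z y : Fin D.rank → ℝ) (r : Rt D) : val C (z - y) r = val C z r - val C y r := by
  simp [val, mul_sub, Finset.sum_sub_distrib]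

theorem val_smul (a : ℝ) (z : Fin D.rank → ℝ) (r : Rt D) : val C (a • z) r = a * val C z r := by
  simp [val, Finset.mul_sum, mul_left_comm]

theorem val_zero (r : Rt D) : val C 0 r = 0 := by simp [val]

theorem val_rev (z : Fin D.rank → ℝ) (r : Rt D) : val C z r.rev = - val C z r := by
  simp [val, C.v_rev]

theorem val_combo (z : Fin D.rank → ℝ) {q r s : Rt D} {i j : ℤ}
    (h : C.v q = i • C.v r + j • C.v s) : val C z q = i * val C z r + j * val C z s := by
  simp only [val, h, Pi.add_apply, Pi.smul_apply, smul_eq_mul, Int.cast_add, Int.cast_mul, Finset.mul_sum,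
    ← Finset.sum_add_distrib]
  exact Finset.sum_congr rfl fun m _ => by ring

theorem val_nonneg {z : Fin D.rank → ℝ} (hz : ∀ i, 0 ≤ z i) {r : Rt D} (hr : r ∈ C.Pos) :
    0 ≤ val C z r :=
  Finset.sum_nonneg fun m _ => mul_nonneg (by exact_mod_cast C.v_sign r hr m) (hz m)

theorem val_A (i : Fin D.rank) (r : Rt D) :
    val C (fun m => (A D i (C.p m) : ℝ)) r = (A D i r : ℝ) := by
  simp only [val]
  exact_mod_cast (C.A_lin i r).symm

/-- the simple reflection as a permutation of the roots -/
def wP (i : Fin D.rank) : Equiv.Perm (Rt D) := ⟨C.w i, C.w i, C.w_w i, C.w_w i⟩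

theorem wP_apply (i : Fin D.rank) (r : Rt D) : wP C i r = C.w i r := rfl

/-- the reflection group -/
def W : Subgroup (Equiv.Perm (Rt D)) := Subgroup.closure (Set.range (wP C))

/-- the pullback of a functional along a permutation of the roots -/
def move (σ : Equiv.Perm (Rt D)) (z : Fin D.rank → ℝ) : Fin D.rank → ℝ :=
  fun m => val C z (σ (C.p m))

theorem val_w (z : Fin D.rank → ℝ) (i : Fin D.rank) (r : Rt D) :
    val C z (C.w i r) = val C z r - (A D i r : ℝ) * z i := by
  simp only [val, C.v_w, Pi.sub_apply, Pi.smul_apply, smul_eq_mul, Int.cast_sub, Int.cast_mul, sub_mul,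
    Finset.sum_sub_distrib]
  simp [Pi.single_apply]

theorem val_move {σ : Equiv.Perm (Rt D)} (hσ : σ ∈ W C) :
    ∀ z r, val C (move C σ z) r = val C z (σ r) := by
  induction hσ using Subgroup.closure_induction'' with
  | one =>
    intro z r
    rw [show move C 1 z = z from funext fun m => by simp [move, val_p]]
    rfl
  | mem x hx =>
    obtain ⟨i, rfl⟩ := hx
    intro z r
    simp only [wP_apply, val_w]
    rw [show move C (wP C i) z = z - z i • (fun m => (A D i (C.p m) : ℝ)) from funext fun m => by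
      simp [move, wP_apply, val_w, val_p, mul_comm]]
    rw [val_sub, val_smul, val_A]
    ring
  | inv_mem x hx =>
    obtain ⟨i, rfl⟩ := hx
    intro z r
    have hinv : (wP C i)⁻¹ = wP C i := Equiv.ext fun s => rfl
    simp only [hinv, wP_apply, val_w]
    rw [show move C (wP C i) z = z - z i • (fun m => (A D i (C.p m) : ℝ)) from funext fun m => by
      simp [move, wP_apply, val_w, val_p, mul_comm]]
    rw [val_sub, val_smul, val_A]
    ring
  | mul x y _ _ hx hy =>
    intro z r
    have e : move C (x * y) z = move C y (move C x z) := by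
      funext m
      simp [move, hx z]
    rw [e, hy, hx]
    rfl

theorem move_mul {σ : Equiv.Perm (Rt D)} (hσ : σ ∈ W C) (τ : Equiv.Perm (Rt D)) (z : Fin D.rank → ℝ) :
    move C (σ * τ) z = move C τ (move C σ z) := by
  funext m
  simp only [move, Equiv.Perm.mul_apply]
  exact (val_move C hσ z _).symm

theorem move_one (z : Fin D.rank → ℝ) : move C 1 z = z := by
  funext m
  simp [move, val_p]

/-- the invariant form -/
def Bf (z y : Fin D.rank → ℝ) : ℝ := ∑ r, val C z r * val C y r

theorem Bf_move {σ : Equiv.Perm (Rt D)} (hσ : σ ∈ W C) (z y : Fin D.rank → ℝ) :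
    Bf C (move C σ z) (move C σ y) = Bf C z y := by
  simp only [Bf, val_move C hσ]
  exact Equiv.sum_comp σ (fun r => val C z r * val C y r)

/-- N_i = Σ_r A_i(r)² -/
def Nn (_C : Core D) (i : Fin D.rank) : ℝ := ∑ r, (A D i r : ℝ) ^ 2

theorem Nn_pos (i : Fin D.rank) : 0 < Nn C i := by
  refine Finset.sum_pos' (fun r _ => sq_nonneg _) ⟨C.p i, Finset.mem_univ _, ?_⟩
  rw [C.A_p]; norm_num

theorem sum_val_mul_A (z : Fin D.rank → ℝ) (i : Fin D.rank) :
    2 * ∑ r, val C z r * (A D i r : ℝ) = z i * Nn C i := by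
  have h : ∑ r, val C z r * (A D i r : ℝ) = ∑ r, val C z (C.w i r) * (A D i (C.w i r) : ℝ) :=
    (Equiv.sum_comp (wP C i) (fun r => val C z r * (A D i r : ℝ))).symm
  have h2 : ∑ r, val C z (C.w i r) * (A D i (C.w i r) : ℝ) =
      ∑ r, ((z i) * (A D i r : ℝ) ^ 2 - val C z r * (A D i r : ℝ)) := by
    refine Finset.sum_congr rfl fun r _ => ?_
    rw [val_w, C.A_w, C.A_p]
    push_cast
    ring
  rw [Finset.sum_sub_distrib, ← Finset.mul_sum] at h2
  simp only [Nn]
  linarith

/-- symmetrisability of the Cartan matrix -/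
theorem A_sym (i j : Fin D.rank) :
    (A D j (C.p i) : ℝ) * Nn C i = (A D i (C.p j) : ℝ) * Nn C j := by
  have h1 := sum_val_mul_A C (fun m => (A D j (C.p m) : ℝ)) i
  have h2 := sum_val_mul_A C (fun m => (A D i (C.p m) : ℝ)) j
  simp only [val_A] at h1 h2
  have : ∑ r, (A D j r : ℝ) * (A D i r : ℝ) = ∑ r, (A D i r : ℝ) * (A D j r : ℝ) :=
    Finset.sum_congr rfl fun r _ => by ring
  linarith

/-- coroot coefficients and root coefficients have the same support -/
theorem co_eq_zero_iff (r : Rt D) (j : Fin D.rank) : co D r j = 0 ↔ C.v r j = 0 := by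
  obtain ⟨c, hc, h⟩ : ∃ c : ℝ, 0 < c ∧ ∀ j, (co D r j : ℝ) * Nn C j = c * C.v r j := by
    refine C.ind (fun r => ∃ c : ℝ, 0 < c ∧ ∀ j, (co D r j : ℝ) * Nn C j = c * C.v r j) ?_ ?_ r
    · intro i
      refine ⟨Nn C i, Nn_pos C i, fun j => ?_⟩
      by_cases hj : j = i
      · subst hj; simp [C.co_p, C.v_p]
      · simp [C.co_p, C.v_p, Pi.single_apply, hj]
    · rintro i s ⟨c, hc, h⟩
      refine ⟨c, hc, fun j => ?_⟩
      have key : (pr D s (C.p i) : ℝ) * Nn C i = c * (A D i s : ℝ) := by
        rw [C.A_lin i s, pr]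
        push_cast
        rw [Finset.sum_mul, Finset.mul_sum]
        refine Finset.sum_congr rfl fun k _ => ?_
        rw [mul_assoc, A_sym C i k]
        linear_combination (A D i (C.p k) : ℝ) * h k
      simp only [C.co_w, C.v_w, Pi.sub_apply, Pi.smul_apply, smul_eq_mul, Int.cast_sub, Int.cast_mul]
      by_cases hj : j = i
      · subst hj
        simp only [Pi.single_eq_same, Int.cast_one, mul_one]
        linear_combination h j - key
      · simp only [Pi.single_eq_of_ne hj, Int.cast_zero, mul_zero, sub_zero]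
        exact h j
  constructor
  · intro h0
    have := h j
    rw [h0, Int.cast_zero, zero_mul] at this
    exact_mod_cast (mul_eq_zero.1 this.symm).resolve_left hc.ne'
  · intro h0
    have := h j
    rw [h0, Int.cast_zero, mul_zero] at this
    exact_mod_cast (mul_eq_zero.1 this).resolve_right (Nn_pos C j).ne'

theorem Bf_self_nonneg (z : Fin D.rank → ℝ) : 0 ≤ Bf C z z :=
  Finset.sum_nonneg fun r _ => mul_self_nonneg _

theorem sq_le_Bf (z : Fin D.rank → ℝ) (i : Fin D.rank) : z i ^ 2 ≤ Bf C z z := by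
  have := Finset.single_le_sum (f := fun r => val C z r * val C z r) (fun r _ => mul_self_nonneg _)
    (Finset.mem_univ (C.p i))
  simp only [val_p] at this
  rw [pow_two]
  exact this

theorem eq_zero_of_Bf {z : Fin D.rank → ℝ} (h : Bf C z z ≤ 0) : z = 0 := by
  funext i
  have := sq_le_Bf C z i
  have h2 : z i ^ 2 = 0 := le_antisymm (by linarith) (sq_nonneg _)
  exact pow_eq_zero_iff (two_ne_zero) |>.1 h2

theorem parallelogram (z y : Fin D.rank → ℝ) :
    Bf C (z + y) (z + y) + Bf C (z - y) (z - y) = 2 * Bf C z z + 2 * Bf C y y := by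
  simp only [Bf, Finset.mul_sum, ← Finset.sum_add_distrib, val_add, val_sub]
  exact Finset.sum_congr rfl fun r _ => by ring

theorem Bf_smul (a : ℝ) (z : Fin D.rank → ℝ) : Bf C (a • z) (a • z) = a ^ 2 * Bf C z z := by
  simp only [Bf, Finset.mul_sum, val_smul]
  exact Finset.sum_congr rfl fun r _ => by ring

theorem exists_dominant (z : Fin D.rank → ℝ) : ∃ σ ∈ W C, ∀ i, 0 ≤ move C σ z i := by
  classical
  let ρ : Fin D.rank → ℝ := fun _ => 1
  obtain ⟨σ, hσ, hmax⟩ := ((Finset.univ : Finset (Equiv.Perm (Rt D))).filter (· ∈ W C)).exists_max_image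
    (fun σ => ∑ r, val C z (σ r) * val C ρ r) ⟨1, by simp [(W C).one_mem]⟩
  rw [Finset.mem_filter] at hσ
  refine ⟨σ, hσ.2, fun i => ?_⟩
  by_contra hneg
  set y := move C σ z with hy
  have hmem : σ * wP C i ∈ W C := (W C).mul_mem hσ.2 (Subgroup.subset_closure ⟨i, rfl⟩)
  have := hmax (σ * wP C i) (by simp [hmem])
  simp only [Equiv.Perm.mul_apply, ← val_move C hσ.2, ← hy, wP_apply, val_w] at this
  rw [show ∑ r, (val C y r - (A D i r : ℝ) * y i) * val C ρ r =
      ∑ r, val C y r * val C ρ r - y i * ∑ r, val C ρ r * (A D i r : ℝ) by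
    rw [Finset.mul_sum, ← Finset.sum_sub_distrib]
    exact Finset.sum_congr rfl fun r _ => by ring] at this
  have h2 := sum_val_mul_A C ρ i
  have h3 : 0 < ∑ r, val C ρ r * (A D i r : ℝ) := by
    have := Nn_pos C i
    simp only [ρ] at h2 ⊢
    linarith
  have h4 : y i * ∑ r, val C ρ r * (A D i r : ℝ) < 0 := mul_neg_of_neg_of_pos (not_le.1 hneg) h3
  linarith

end Cfsg.Agent.Lib.ChevBorelTits
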