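import Cfsg.Agent.Lib.ChevStructure.CommGL

/-!
For two distinct fundamental indices j, k there is a positive root r involving k such that r + p_j is
a root: checked on the seven tables.
-/

set_option autoImplicit false
set_option maxRecDepth 100000

namespace Cfsg.Agent.Lib.ChevBorelTits

open Cfsg.Lie
open Cfsg.Agent.Lib.ChevStructure

/-- r + p_j is tabulated -/
def stepOK (D : ChevalleyDatum) (j : ℕ) (r : ℕ) : Bool :=
  match (D.chainEntry (D.simple j) r)[0]? with
  | some e => Nat.blt e.1 D.nroots && !(decide (e.2 = 0))
  | none => false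

/-- the table check -/
def LinkedTable (D : ChevalleyDatum) : Prop :=
  ∀ j k : Fin D.rank, j ≠ k →
    ∃ r : Rt D, D.nroots ≤ 2 * r.val ∧ co D r k ≠ 0 ∧ stepOK D j.val r.val = true

theorem linked_G2 : LinkedTable chevG2 := by unfold LinkedTable; decide +kernel
theorem linked_B2 : LinkedTable chevB2 := by unfold LinkedTable; decide +kernel
theorem linked_D4 : LinkedTable chevD4 := by unfold LinkedTable; decide +kernel
theorem linked_F4 : LinkedTable chevF4 := by unfold LinkedTable; decide +kernel
theorem linked_E6 : LinkedTable chevE6 := by unfold LinkedTable; decide +kernel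
theorem linked_E7 : LinkedTable chevE7 := by unfold LinkedTable; decide +kernel
theorem linked_E8 : LinkedTable chevE8 := by unfold LinkedTable; decide +kernel

theorem linked_all (D : ChevalleyDatum)
    (hD : D ∈ [chevG2, chevB2, chevD4, chevF4, chevE6, chevE7, chevE8]) : LinkedTable D := by
  simp only [List.mem_cons, List.not_mem_nil, or_false] at hD
  rcases hD with rfl | rfl | rfl | rfl | rfl | rfl | rfl
  exacts [linked_G2, linked_B2, linked_D4, linked_F4, linked_E6, linked_E7, linked_E8]

theorem step_root {D : ChevalleyDatum} (C : Core D) {j : Fin D.rank} {r : Rt D}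
    (h : stepOK D j.val r.val = true) : ∃ q : Rt D, C.v q = C.v r + C.v (C.p j) := by
  unfold stepOK at h
  split at h
  next e he =>
    rw [Bool.and_eq_true, Bool.not_eq_true', decide_eq_false_iff_not] at h
    have hlt : e.1 < D.nroots := by simpa [Nat.blt_eq] using h.1
    rw [C.simple_eq] at he
    refine ⟨⟨e.1, hlt⟩, ?_⟩
    have hne : chM D 1 (C.p j) r ⟨e.1, hlt⟩ ≠ 0 := by
      simp [C.chM_entry, he, h.2]
    rw [(C.chM_tgt 0 (C.p j) r ⟨e.1, hlt⟩ hne).2]
    simp
  next => simp at h

end Cfsg.Agent.Lib.ChevBorelTits
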