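import Cfsg.Agent.Lib.ChevBorelTits.Sylow
import Mathlib.Topology.MetricSpace.ProperSpace
import Mathlib.Topology.Order.Compact

/-!
The Borel–Tits property: for a non-trivial p-subgroup R, the point of least norm among those at which
R has value at least 1 is unique up to the parabolic, so it is fixed by the normaliser of R.
-/

set_option autoImplicit false
set_option linter.unusedSectionVars false

namespace Cfsg.Agent.Lib.ChevBorelTits

open Cfsg.Lie
open Cfsg.Agent.Lib.ChevStructure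
open scoped MatrixGroups Matrix

variable {D : ChevalleyDatum} (C : Core D) (F : Type*) [Field F] [Fintype F]
include C

/-- R has value at least 1 at some conjugate of the dominant point z -/
def Feas (R : Subgroup (GL D.Idx F)) : Set (Fin D.rank → ℝ) :=
  {z | (∀ i, 0 ≤ z i) ∧ ∃ g ∈ D.group F, R ≤ (UF C F z 1).map (MulAut.conj g).toMonoidHom}

theorem continuous_val (r : Rt D) : Continuous fun z : Fin D.rank → ℝ => val C z r := by
  unfold val; fun_prop

theorem isClosed_feas (R : Subgroup (GL D.Idx F)) : IsClosed (Feas C F R) := by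
  classical
  have e : Feas C F R = ⋃ gS : {gS : GL D.Idx F × Set (Rt D) //
      gS.1 ∈ D.group F ∧ R ≤ (C.US F gS.2).map (MulAut.conj gS.1).toMonoidHom},
      ({z | ∀ i, (0 : ℝ) ≤ z i} ∩ ⋂ r ∈ gS.1.2, {z | 1 ≤ val C z r}) := by
    ext z
    simp only [Set.mem_iUnion, Set.mem_inter_iff, Set.mem_iInter]
    constructor
    · rintro ⟨hz, g, hg, hR⟩
      exact ⟨⟨(g, {r | 1 ≤ val C z r}), hg, hR⟩, hz, fun r hr => hr⟩
    · rintro ⟨⟨⟨g, S⟩, hg, hR⟩, hz, hS⟩
      exact ⟨hz, g, hg, hR.trans (Subgroup.map_mono (C.US_mono F hS))⟩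
  rw [e]
  refine isClosed_iUnion_of_finite fun gS => IsClosed.inter ?_ ?_
  · have : {z : Fin D.rank → ℝ | ∀ i, (0 : ℝ) ≤ z i} = ⋂ i, {z | 0 ≤ z i} := by ext z; simp
    rw [this]
    exact isClosed_iInter fun i => isClosed_le continuous_const (continuous_apply i)
  · exact isClosed_biInter fun r _ => isClosed_le continuous_const (continuous_val C r)

theorem exists_min (R : Subgroup (GL D.Idx F)) (hne : (Feas C F R).Nonempty) :
    ∃ z ∈ Feas C F R, ∀ y ∈ Feas C F R, Bf C z z ≤ Bf C y y := by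
  obtain ⟨z0, hz0⟩ := hne
  set M := Bf C z0 z0 with hM
  have hcont : Continuous fun z : Fin D.rank → ℝ => Bf C z z := by
    unfold Bf
    exact continuous_finsetSum _ fun r _ => (continuous_val C r).mul (continuous_val C r)
  set K := Feas C F R ∩ {z | Bf C z z ≤ M} with hK
  have hcl : IsClosed K := (isClosed_feas C F R).inter (isClosed_le hcont continuous_const)
  have hb : Bornology.IsBounded K := by
    refine (Metric.isBounded_closedBall (x := (0 : Fin D.rank → ℝ)) (r := M + 1)).subset fun z hz => ?_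
    rw [mem_closedBall_zero_iff, pi_norm_le_iff_of_nonneg (by linarith [Bf_self_nonneg C z0])]
    intro i
    have h1 := sq_le_Bf C z i
    have h2 : Bf C z z ≤ M := hz.2
    rw [Real.norm_eq_abs, abs_le]
    constructor <;> nlinarith
  obtain ⟨z, hz, hmin⟩ := (Metric.isCompact_of_isClosed_isBounded hcl hb).exists_isMinOn
    ⟨z0, hz0, le_refl M⟩ hcont.continuousOn
  refine ⟨z, hz.1, fun y hy => ?_⟩
  by_cases h : Bf C y y ≤ M
  · exact hmin ⟨hy, h⟩
  · exact le_trans hz.2 (le_of_lt (not_le.1 h))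

theorem one_le_val {r : Rt D} (hr : r ∈ C.Pos) : 1 ≤ val C (fun _ => (1 : ℝ)) r := by
  have h : (1 : ℤ) ≤ ∑ m, C.v r m := by
    suffices hlt : (0 : ℤ) < ∑ m, C.v r m by omega
    refine lt_of_le_of_ne (Finset.sum_nonneg fun m _ => C.v_sign r hr m) (fun h => ?_)
    have h0 : C.v r = 0 := funext fun m =>
      (Finset.sum_eq_zero_iff_of_nonneg fun m _ => C.v_sign r hr m).1 h.symm m (Finset.mem_univ m)
    have := C.ht_pos hr
    rw [Core.ht, h0] at this
    simp [phi] at this
  simp only [val, mul_one]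
  exact_mod_cast h

/-- the stabiliser of the filtration of z -/
def stab (z : Fin D.rank → ℝ) : Subgroup (GL D.Idx F) :=
  D.group F ⊓ ⨅ c : {c : ℝ // 0 < c}, Subgroup.normalizer (UF C F z c.1 : Set (GL D.Idx F))

theorem stab_le (hPar : ParHyp C F) {z : Fin D.rank → ℝ} (hz : ∀ i, 0 ≤ z i) (H : CommOK C) :
    stab C F z ≤ D.parabolicSubgroup F {j | ∀ h : j < D.rank, z ⟨j, h⟩ = 0} := by
  have hB : D.borelSubgroup F ≤ stab C F z :=
    le_inf (borel_le_group C F) (le_iInf fun c => borel_le_normalizer C F H hz c.2)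
  refine le_trans (hPar _ hB inf_le_left) (parabolic_mono C F ?_)
  rintro j ⟨h, hP⟩ h'
  by_contra hne
  have hpos : 0 < z ⟨j, h⟩ := lt_of_le_of_ne (hz _) (Ne.symm hne)
  exact P_not_mem_normalizer C F ⟨j, h⟩ (S := {r | z ⟨j, h⟩ ≤ val C z r})
    (fun r hr => pos_of_val_pos C hz (lt_of_lt_of_le hpos hr))
    (show z ⟨j, h⟩ ≤ val C z (C.p ⟨j, h⟩) by rw [val_p])
    ((Subgroup.mem_iInf.1 hP.2) ⟨z ⟨j, h⟩, hpos⟩)

theorem mem_stab_of_realizes {z : Fin D.rank → ℝ} {n : GL D.Idx F} {σ : Equiv.Perm (Rt D)}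
    (hnG : n ∈ D.group F) (hn : Realizes C F n σ) (hfix : move C σ z = z) : n ∈ stab C F z := by
  refine ⟨hnG, Subgroup.mem_iInf.2 fun c => ?_⟩
  have h := hn z c.1
  rw [hfix] at h
  rw [Subgroup.mem_normalizer_iff]
  intro x
  conv_rhs => rw [← h]
  rw [Subgroup.mem_map_equiv]
  simp [mul_assoc]

theorem UF_le_radical {z : Fin D.rank → ℝ} (hz : ∀ i, 0 ≤ z i) :
    UF C F z 1 ≤ D.unipotentRadical F {j | ∀ h : j < D.rank, z ⟨j, h⟩ = 0} := by
  refine (Subgroup.closure_le _).2 ?_
  rintro g ⟨r, hr, t, rfl⟩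
  refine Subgroup.subset_closure ⟨r.val, t,
    (C.pos_iff r).2 (pos_of_val_pos C hz (lt_of_lt_of_le one_pos hr)), ?_, C.X_val_x r t⟩
  rintro ⟨-, hsub⟩
  have : val C z r = 0 := Finset.sum_eq_zero fun m _ => by
    by_cases hm : z m = 0
    · rw [hm, mul_zero]
    · rw [(co_eq_zero_iff C r m).1 (hsub m.val m.isLt fun h => hm (h m.isLt)), Int.cast_zero, zero_mul]
  have h1 : (1 : ℝ) ≤ val C z r := hr
  linarith

theorem borel_tits (H : CommOK C) (hBru : BruHyp C F) (hPar : ParHyp C F) (p : ℕ) [Fact p.Prime]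
    [CharP F p] (R : Subgroup (GL D.Idx F)) (hRG : R ≤ D.group F) (hR : IsPGroup p R) (hne : R ≠ ⊥) :
    ∃ g ∈ D.group F, ∃ J : Set ℕ, (∃ i, i < D.rank ∧ i ∉ J) ∧
      Subgroup.normalizer (R : Set (GL D.Idx F)) ⊓ D.group F ≤
        (D.parabolicSubgroup F J).map (MulAut.conj g).toMonoidHom ∧
      R ≤ (D.unipotentRadical F J).map (MulAut.conj g).toMonoidHom := by
  obtain ⟨g₁, hg₁, hR₁⟩ := exists_conj_le_US C F p H hPar R hRG hR
  have hF : (Feas C F R).Nonempty := ⟨fun _ => 1, fun _ => zero_le_one, g₁, hg₁,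
    hR₁.trans (Subgroup.map_mono (C.US_mono F fun r hr => one_le_val C hr))⟩
  obtain ⟨z, ⟨hz, g, hg, hRg⟩, hmin⟩ := exists_min C F R hF
  refine ⟨g, hg, {j | ∀ h : j < D.rank, z ⟨j, h⟩ = 0}, ?_, ?_,
    hRg.trans (Subgroup.map_mono (UF_le_radical C F hz))⟩
  · by_contra hcon
    apply hne
    have hz0 : z = 0 := funext fun i => by
      by_contra hi
      exact hcon ⟨i.val, i.isLt, fun h => hi (h i.isLt)⟩
    rw [eq_bot_iff]
    refine hRg.trans ?_
    rw [Subgroup.map_le_iff_le_comap]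
    refine (Subgroup.closure_le _).2 ?_
    rintro x ⟨r, hr, t, rfl⟩
    have h1 : (1 : ℝ) ≤ val C z r := hr
    rw [hz0, val_zero] at h1
    linarith
  rintro h ⟨hN, hhG⟩
  have hk : g⁻¹ * h * g ∈ D.group F := mul_mem (mul_mem (inv_mem hg) hhG) hg
  obtain ⟨n, hn, b, hb, b', hb', e⟩ := hBru _ hk
  obtain ⟨hnG, σ, hσ, hσn⟩ := monomial_realizes C F hn
  have hbN := borel_le_normalizer C F H hz (c := 1) one_pos hb
  have hb'N := borel_le_normalizer C F H hz (c := 1) one_pos hb'
  -- the second position of R, seen from the frame g * b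
  set y := move C σ⁻¹ z with hy
  have hyz : move C σ y = z := by
    rw [hy, ← move_mul C ((W C).inv_mem hσ), inv_mul_cancel, move_one]
  have hmem : ∀ r ∈ R, (g * b)⁻¹ * r * (g * b) ∈ UF C F z 1 ∧ (g * b)⁻¹ * r * (g * b) ∈ UF C F y 1 := by
    intro r hr
    constructor
    · have h1 := hRg hr
      rw [Subgroup.mem_map_equiv, MulAut.conj_symm_apply] at h1
      have := (Subgroup.mem_normalizer_iff''.1 hbN _).1 h1
      simpa [mul_assoc] using this
    · have h1 := hRg ((Subgroup.mem_normalizer_iff''.1 hN r).1 hr)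
      rw [Subgroup.mem_map_equiv, MulAut.conj_symm_apply] at h1
      have h2 := (Subgroup.mem_normalizer_iff.1 hb'N _).1 h1
      rw [← hσn y 1, hyz, Subgroup.mem_map_equiv, MulAut.conj_symm_apply]
      have e' : h * g = g * (b * n * b') := by rw [← e]; group
      have e2 : h = g * b * n * b' * g⁻¹ := by
        rw [eq_mul_inv_iff_mul_eq, e']; group
      rw [e2] at h2
      convert h2 using 1
      group
  set m : Fin D.rank → ℝ := (1 / 2 : ℝ) • (z + y) with hm
  obtain ⟨τ, hτ, hdom⟩ := exists_dominant C m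
  obtain ⟨n', hn'G, hn'⟩ := exists_realizer C F hτ
  have hfeas : move C τ m ∈ Feas C F R := by
    refine ⟨hdom, g * b * n', mul_mem (mul_mem hg (borel_le_group C F hb)) hn'G, fun r hr => ?_⟩
    have h1 := inter C F H hz one_pos one_pos (hmem r hr).1 (hmem r hr).2
    have h2 : (g * b)⁻¹ * r * (g * b) ∈ UF C F m 1 := by
      refine C.US_mono F (fun s hs => ?_) h1
      show 1 ≤ val C m s
      rw [hm, val_smul, val_add]
      linarith [hs.1, hs.2]
    rw [← hn' m 1, Subgroup.mem_map_equiv, MulAut.conj_symm_apply] at h2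
    rw [Subgroup.mem_map_equiv, MulAut.conj_symm_apply]
    simpa [mul_assoc] using h2
  have h1 := hmin _ hfeas
  rw [Bf_move C hτ, hm, Bf_smul] at h1
  have hyy : Bf C y y = Bf C z z := by rw [hy, Bf_move C ((W C).inv_mem hσ)]
  have hpl := parallelogram C z y
  have hzy : z = y := sub_eq_zero.1 (eq_zero_of_Bf C (by nlinarith))
  have hfix : move C σ z = z := by
    nth_rewrite 1 [hzy]
    exact hyz
  have hB : D.borelSubgroup F ≤ stab C F z :=
    le_inf (borel_le_group C F) (le_iInf fun c => borel_le_normalizer C F H hz c.2)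
  have hst : g⁻¹ * h * g ∈ stab C F z := by
    rw [e]
    exact mul_mem (mul_mem (hB hb) (mem_stab_of_realizes C F hnG hσn hfix)) (hB hb')
  rw [Subgroup.mem_map_equiv, MulAut.conj_symm_apply]
  exact stab_le C F hPar hz H hst

end Cfsg.Agent.Lib.ChevBorelTits
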