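import Cfsg.Agent.Lib.ChevBorelTits.Filtration

/-!
Every element of the monomial subgroup realises an element of the reflection group, and membership
facts for the subgroups inside the Chevalley group.
-/

set_option autoImplicit false
set_option linter.unusedSectionVars false

namespace Cfsg.Agent.Lib.ChevBorelTits

open Cfsg.Lie
open Cfsg.Agent.Lib.ChevStructure
open scoped MatrixGroups Matrix

variable {D : ChevalleyDatum} (C : Core D) (F : Type*) [Field F]
include C

theorem X_mem_group (r : Rt D) (t : F) : C.X F r t ∈ D.group F := by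
  rw [← C.sup_UV]
  rcases C.pos_or_neg r with h | h
  · exact Subgroup.mem_sup_left (Subgroup.subset_closure ⟨r.val, t, h, C.X_val_x r t⟩)
  · exact Subgroup.mem_sup_right (Subgroup.subset_closure ⟨r.val, t, h, C.X_val_x r t⟩)

theorem nR_mem_group (r : Rt D) (u : Fˣ) : C.nR F r u ∈ D.group F :=
  mul_mem (mul_mem (X_mem_group C F _ _) (X_mem_group C F _ _)) (X_mem_group C F _ _)

theorem US_le_group (S : Set (Rt D)) : C.US F S ≤ D.group F := by
  refine (Subgroup.closure_le _).2 ?_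
  rintro g ⟨r, -, t, rfl⟩
  exact X_mem_group C F r t

theorem hD_mem_diag (r : Rt D) (u : Fˣ) : Core.hD F r u ∈ D.diagonalSubgroup F :=
  Subgroup.subset_closure ⟨r.val, (u : F), r.isLt, u.ne_zero, (C.hMat_eq r u).symm⟩

theorem diag_le_group : D.diagonalSubgroup F ≤ D.group F := by
  refine (Subgroup.closure_le _).2 ?_
  rintro g ⟨r, t, hr, ht, hg⟩
  have e : g = Core.hD F (⟨r, hr⟩ : Rt D) (Units.mk0 t ht) := Units.ext (by rw [hg, ← C.hMat_eq]; rfl)
  rw [SetLike.mem_coe, e, ← C.hR_eq]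
  exact mul_mem (nR_mem_group C F _ _) (nR_mem_group C F _ _)

theorem borel_le_group : D.borelSubgroup F ≤ D.group F := by
  rw [C.borel_eq]
  exact sup_le (US_le_group C F _) (diag_le_group C F)

theorem realizes_inv {n : GL D.Idx F} {σ : Equiv.Perm (Rt D)} (hσ : σ ∈ W C)
    (hn : Realizes C F n σ) : Realizes C F n⁻¹ σ⁻¹ := by
  intro z c
  have h := hn (move C σ⁻¹ z) c
  rw [← move_mul C ((W C).inv_mem hσ), inv_mul_cancel, move_one] at h
  conv_lhs => rw [← h, Subgroup.map_map]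
  rw [show ((MulAut.conj n⁻¹).toMonoidHom).comp (MulAut.conj n).toMonoidHom = MonoidHom.id _ from by
    ext x; simp [mul_assoc], Subgroup.map_id]

theorem nR_realizes (r : Rt D) : ∀ u : Fˣ, ∃ σ ∈ W C, Realizes C F (C.nR F r u) σ := by
  refine C.ind (fun r => ∀ u : Fˣ, ∃ σ ∈ W C, Realizes C F (C.nR F r u) σ) ?_ ?_ r
  · intro i u
    have e : C.nR F (C.p i) u = Core.hD F (C.p i) u * C.P F i := by
      rw [← C.hR_eq, mul_assoc, Core.P, ← C.nR_inv F (C.p i) 1, inv_mul_cancel, mul_one]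
    refine ⟨1 * wP C i, (W C).mul_mem (W C).one_mem (Subgroup.subset_closure ⟨i, rfl⟩), ?_⟩
    rw [e]
    exact realizes_mul C F (W C).one_mem (realizes_diag C F (hD_mem_diag C F _ u)) (realizes_P C F i)
  · intro i r ih u
    obtain ⟨σ, hσ, hn⟩ := ih ((C.ηU F i r)⁻¹ * u)
    have hw : wP C i ∈ W C := Subgroup.subset_closure ⟨i, rfl⟩
    refine ⟨wP C i * σ * (wP C i)⁻¹, (W C).mul_mem ((W C).mul_mem hw hσ) ((W C).inv_mem hw), ?_⟩
    have h := realizes_mul C F ((W C).mul_mem hw hσ) (realizes_mul C F hw (realizes_P C F i) hn)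
      (realizes_inv C F hw (realizes_P C F i))
    rwa [C.P_nR_conj, mul_inv_cancel_left] at h

theorem monomial_realizes {n : GL D.Idx F} (hn : n ∈ D.monomialSubgroup F) :
    n ∈ D.group F ∧ ∃ σ ∈ W C, Realizes C F n σ := by
  let S : Subgroup (GL D.Idx F) :=
    { carrier := {n | n ∈ D.group F ∧ ∃ σ ∈ W C, Realizes C F n σ}
      mul_mem' := fun {a b} ⟨ha, σ, hσ, ha'⟩ ⟨hb, τ, hτ, hb'⟩ =>
        ⟨mul_mem ha hb, σ * τ, (W C).mul_mem hσ hτ, realizes_mul C F hσ ha' hb'⟩
      one_mem' := ⟨one_mem _, 1, (W C).one_mem, realizes_one C F⟩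
      inv_mem' := fun {a} ⟨ha, σ, hσ, ha'⟩ =>
        ⟨inv_mem ha, σ⁻¹, (W C).inv_mem hσ, realizes_inv C F hσ ha'⟩ }
  have hle : D.monomialSubgroup F ≤ S := by
    refine sup_le (fun h hh => ⟨diag_le_group C F hh, 1, (W C).one_mem, realizes_diag C F hh⟩)
      ((Subgroup.closure_le _).2 ?_)
    rintro g ⟨r, hr, hg⟩
    have e : g = C.nR F ⟨r, hr⟩ 1 := Units.ext (by rw [hg, ← C.nMat_eq]; rfl)
    subst e
    exact ⟨nR_mem_group C F _ _, nR_realizes C F _ _⟩
  exact hle hn

end Cfsg.Agent.Lib.ChevBorelTits
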