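import Cfsg.Agent.Lib.ChevBorelTits.Main
import Cfsg.Agent.Lib.ChevBorelTits.Linked

/-!
For a proper parabolic P_J the centraliser of U_J in P_J is a p-group.
-/

set_option autoImplicit false
set_option linter.unusedSectionVars false

namespace Cfsg.Agent.Lib.ChevBorelTits

open Cfsg.Lie
open Cfsg.Agent.Lib.ChevStructure
open scoped MatrixGroups Matrix

variable {D : ChevalleyDatum} (C : Core D) (F : Type*) [Field F] [Fintype F]
include C

/-- 1 outside J, 0 on J -/
noncomputable def outJ (_C : Core D) (J : Set ℕ) : Fin D.rank → ℝ :=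
  open scoped Classical in fun i => if i.val ∈ J then 0 else 1

theorem outJ_nonneg (J : Set ℕ) : ∀ i, 0 ≤ outJ C J i := by
  intro i; simp only [outJ]; split_ifs <;> norm_num

theorem outJ_eq_zero {J : Set ℕ} {i : Fin D.rank} : outJ C J i = 0 ↔ i.val ∈ J := by
  simp only [outJ]; split_ifs with h <;> simp [h]

theorem radical_eq (J : Set ℕ) : D.unipotentRadical F J = UF C F (outJ C J) 1 := by
  classical
  refine le_antisymm ((Subgroup.closure_le _).2 ?_) ((Subgroup.closure_le _).2 ?_)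
  · rintro g ⟨r, t, hpos, hns, hg⟩
    rw [C.eq_X (r := ⟨r, hpos.1⟩) hg]
    refine C.X_mem_US F ?_ t
    show (1 : ℝ) ≤ val C (outJ C J) ⟨r, hpos.1⟩
    obtain ⟨i, hi, hiJ, hne⟩ : ∃ i, i < D.rank ∧ i ∉ J ∧ (D.coroot.getD r #[]).getD i 0 ≠ 0 := by
      by_contra hcon
      exact hns ⟨hpos.1, fun i hi hiJ => by_contra fun h => hcon ⟨i, hi, hiJ, h⟩⟩
    have hv : C.v ⟨r, hpos.1⟩ ⟨i, hi⟩ ≠ 0 := fun h => hne ((co_eq_zero_iff C ⟨r, hpos.1⟩ ⟨i, hi⟩).2 h)
    have hP : (⟨r, hpos.1⟩ : Rt D) ∈ C.Pos := (C.pos_iff ⟨r, hpos.1⟩).1 hpos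
    have hge : ∀ m, 0 ≤ (C.v ⟨r, hpos.1⟩ m : ℝ) * outJ C J m := fun m =>
      mul_nonneg (by exact_mod_cast C.v_sign _ hP m) (outJ_nonneg C J m)
    refine le_trans ?_ (Finset.single_le_sum (fun m _ => hge m) (Finset.mem_univ ⟨i, hi⟩))
    have h1 : (1 : ℤ) ≤ C.v ⟨r, hpos.1⟩ ⟨i, hi⟩ := by have := C.v_sign _ hP ⟨i, hi⟩; omega
    simp only [outJ, hiJ, if_false, mul_one]
    exact_mod_cast h1
  · rintro g ⟨r, hr, t, rfl⟩
    have hr' : (1 : ℝ) ≤ val C (outJ C J) r := hr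
    refine Subgroup.subset_closure ⟨r.val, t,
      (C.pos_iff r).2 (pos_of_val_pos C (outJ_nonneg C J) (lt_of_lt_of_le one_pos hr')), ?_, C.X_val_x r t⟩
    rintro ⟨-, hsub⟩
    have : val C (outJ C J) r = 0 := Finset.sum_eq_zero fun m _ => by
      by_cases hm : m.val ∈ J
      · rw [(outJ_eq_zero C).2 hm, mul_zero]
      · rw [(co_eq_zero_iff C r m).1 (hsub m.val m.isLt hm), Int.cast_zero, zero_mul]
    linarith

theorem parabolic_le_stab (H : CommOK C) (J : Set ℕ) :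
    D.parabolicSubgroup F J ≤ stab C F (outJ C J) := by
  refine sup_le (le_inf (borel_le_group C F)
    (le_iInf fun c => borel_le_normalizer C F H (outJ_nonneg C J) c.2)) ((Subgroup.closure_le _).2 ?_)
  rintro g ⟨j, hj, hlt, hg⟩
  have e : g = C.P F ⟨j, hlt⟩ := Units.ext (hg.trans (C.nMat_one ⟨j, hlt⟩))
  subst e
  refine mem_stab_of_realizes C F (P_mem_group C F _) (realizes_P C F _) ?_
  funext m
  simp [move, wP_apply, val_w, val_p, (outJ_eq_zero C (i := ⟨j, hlt⟩)).2 hj]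

theorem mem_US_ge_of {k q : Rt D} (hk : k ∈ C.Pos) (hq : q ∈ C.Pos) {a : F} (ha : a ≠ 0)
    (h : C.X F q a ∈ C.US F {s | C.ht k ≤ C.ht s}) : C.ht k ≤ C.ht q := by
  by_contra hlt
  apply ha
  refine C.eq_zero_of_co_mul (k := q) F fun j => ?_
  have h1 := C.coord_zero F hq (g := 1) (one_mem _) a j
  rw [mul_one] at h1
  rw [← h1]
  by_contra hne
  have hp := C.ht_pos hk
  have hup := (C.US_le_upperU F (σ := 1) (c := C.ht k - 1) (by omega) (S := {s | C.ht k ≤ C.ht s})
    (fun s hs => by rw [one_mul]; have : C.ht k ≤ C.ht s := hs; omega) h).1 (Sum.inl j) (Sum.inr q.rev)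
    (by simpa using hne)
  simp only [one_mul, C.fht_inl, C.fht_inr, C.ht_rev] at hup
  omega

theorem borel_normalizes_ge (H : CommOK C) {k : Rt D} (hk : k ∈ C.Pos) :
    D.borelSubgroup F ≤ Subgroup.normalizer (C.US F {s | C.ht k ≤ C.ht s} : Set (GL D.Idx F)) := by
  rw [C.borel_eq]
  refine sup_le ((Subgroup.closure_le _).2 ?_) (C.diag_le_normalizer _)
  rintro g ⟨r, hr, t, rfl⟩
  have hsub : {s | C.ht k ≤ C.ht s} ⊆ C.Pos := fun s (hs : C.ht k ≤ C.ht s) => by
    rw [C.pos_iff_ht]; have := C.ht_pos hk; omega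
  refine H.mem_normalizer (C.absorb_of_closed (S := C.Pos) subset_rfl hsub ?_ hr) t
  intro a ha s hs q i j hi hj hv
  show C.ht k ≤ C.ht q
  rw [C.ht_combo hv]
  have h1 := C.ht_pos ha
  have h2 : C.ht k ≤ C.ht s := hs
  have h3 := C.ht_pos hk
  have h4 : (0 : ℤ) ≤ (i : ℤ) * C.ht a := mul_nonneg (by omega) (by omega)
  have h5 : C.ht s ≤ (j : ℤ) * C.ht s := le_mul_of_one_le_left (by omega) (by omega)
  omega

theorem centralizer_le_borel (H : CommOK C) (hPar : ParHyp C F) (hL : LinkedTable D) (J : Set ℕ)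
    (hJ : ∃ i, i < D.rank ∧ i ∉ J) :
    D.parabolicSubgroup F J ⊓ Subgroup.centralizer (D.unipotentRadical F J : Set (GL D.Idx F)) ≤
      D.borelSubgroup F := by
  classical
  set z := outJ C J
  set K := D.parabolicSubgroup F J ⊓ Subgroup.centralizer (D.unipotentRadical F J : Set (GL D.Idx F))
  have hz := outJ_nonneg C J
  have hPst := parabolic_le_stab C F H J
  have hBP : D.borelSubgroup F ≤ D.parabolicSubgroup F J := le_sup_left
  have hUP : ∀ g ∈ D.parabolicSubgroup F J,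
      g ∈ Subgroup.normalizer (D.unipotentRadical F J : Set (GL D.Idx F)) := fun g hg => by
    rw [radical_eq C F J]; exact Subgroup.mem_iInf.1 (hPst hg).2 ⟨1, one_pos⟩
  have hBN : D.borelSubgroup F ≤ Subgroup.normalizer (K : Set (GL D.Idx F)) := by
    intro b hb
    rw [Subgroup.mem_normalizer_iff]
    have key : ∀ b ∈ D.borelSubgroup F, ∀ x ∈ K, b * x * b⁻¹ ∈ K := by
      intro b hb x hx
      refine ⟨mul_mem (mul_mem (hBP hb) hx.1) ((D.parabolicSubgroup F J).inv_mem (hBP hb)), ?_⟩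
      show b * x * b⁻¹ ∈ Subgroup.centralizer (D.unipotentRadical F J : Set (GL D.Idx F))
      rw [Subgroup.mem_centralizer_iff]
      intro u hu
      have := Subgroup.mem_centralizer_iff.1 hx.2 _
        ((Subgroup.mem_normalizer_iff''.1 (hUP b (hBP hb)) u).1 hu)
      calc u * (b * x * b⁻¹) = b * (b⁻¹ * u * b * x) * b⁻¹ := by group
        _ = b * (x * (b⁻¹ * u * b)) * b⁻¹ := by rw [this]
        _ = b * x * b⁻¹ * u := by group
    exact fun x => ⟨key b hb x, fun h => by simpa [mul_assoc] using key b⁻¹ ((D.borelSubgroup F).inv_mem hb) _ h⟩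
  have hMP : K ⊔ D.borelSubgroup F ≤ D.parabolicSubgroup F J := sup_le inf_le_left hBP
  refine le_trans le_sup_left (le_trans (hPar (K ⊔ D.borelSubgroup F) le_sup_right
    (hMP.trans (hPst.trans inf_le_left))) (le_trans (parabolic_mono C F ?_) (parabolic_empty C F)))
  rintro j ⟨hj, hP⟩
  exfalso
  set i : Fin D.rank := ⟨j, hj⟩
  -- P i lies in P_J, so z i = 0
  have hzi : z i = 0 := by
    by_contra hne
    have hpos : 0 < z i := lt_of_le_of_ne (hz i) (Ne.symm hne)
    exact P_not_mem_normalizer C F i (S := {r | z i ≤ val C z r})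
      (fun r hr => pos_of_val_pos C hz (lt_of_lt_of_le hpos hr))
      (show z i ≤ val C z (C.p i) by rw [val_p])
      (Subgroup.mem_iInf.1 (hPst (hMP hP)).2 ⟨z i, hpos⟩)
  obtain ⟨c, hc, b, hb, e⟩ : ∃ c ∈ K, ∃ b ∈ D.borelSubgroup F, c * b = C.P F i := by
    have h2 : C.P F i ∈ ((K ⊔ D.borelSubgroup F : Subgroup (GL D.Idx F)) : Set (GL D.Idx F)) := hP
    rw [Subgroup.coe_mul_of_right_le_normalizer_left K _ hBN] at h2
    exact Set.mem_mul.1 h2
  have hstep : ∀ r, (1 : ℝ) ≤ val C z r → C.ht r ≤ C.ht (C.w i r) := by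
    intro r hr
    have hrp := pos_of_val_pos C hz (lt_of_lt_of_le one_pos hr)
    have hwp : C.w i r ∈ C.Pos := pos_of_val_pos C hz (by show 0 < val C z (C.w i r); rw [val_w, hzi]; linarith)
    have hbU : b * C.X F r 1 * b⁻¹ ∈ D.unipotentRadical F J :=
      (Subgroup.mem_normalizer_iff.1 (hUP b (hBP hb)) _).1
        (by rw [radical_eq C F J]; exact C.X_mem_US F (show r ∈ {s | (1 : ℝ) ≤ val C z s} from hr) 1)
    have hconj : C.X F (C.w i r) ((C.η i r : F) * 1) = b * C.X F r 1 * b⁻¹ := by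
      rw [← C.P_X_conj, ← e]
      have := Subgroup.mem_centralizer_iff.1 hc.2 _ hbU
      calc c * b * C.X F r 1 * (c * b)⁻¹ = c * (b * C.X F r 1 * b⁻¹) * c⁻¹ := by group
        _ = b * C.X F r 1 * b⁻¹ := by rw [← this, mul_inv_cancel_right]
    refine mem_US_ge_of C F hrp hwp (a := (C.η i r : F) * 1) ?_ ?_
    · rw [mul_one]
      exact (C.ηU F i r).ne_zero
    · rw [hconj]
      exact (Subgroup.mem_normalizer_iff.1 (borel_normalizes_ge C F H hrp hb) _).1
        (C.X_mem_US F (show r ∈ {s | C.ht r ≤ C.ht s} from le_refl (C.ht r)) 1)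
  have hA : ∀ r, (1 : ℝ) ≤ val C z r → A D i r = 0 := by
    intro r hr
    have h1 := hstep r hr
    have h2 := hstep (C.w i r) (by rw [val_w, hzi]; linarith)
    rw [C.w_w] at h2
    have heq : C.w i r = r := C.phi_strict.injective (le_antisymm h2 h1)
    have hv := congrFun (C.v_w i r) i
    rw [heq] at hv
    simp only [Pi.sub_apply, Pi.smul_apply, Pi.single_eq_same, smul_eq_mul, mul_one] at hv
    omega
  obtain ⟨k, hk, hkJ⟩ := hJ
  have hzk : z ⟨k, hk⟩ = 1 := by simp [z, outJ, hkJ]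
  have hpk : (1 : ℝ) ≤ val C z (C.p ⟨k, hk⟩) := by rw [val_p, hzk]
  by_cases hik : i = ⟨k, hk⟩
  · rw [hik, hzk] at hzi; exact one_ne_zero hzi
  obtain ⟨r, hr, hco, hq⟩ := hL i ⟨k, hk⟩ hik
  obtain ⟨q, hq⟩ := step_root C hq
  have hr1 : (1 : ℝ) ≤ val C z r := by
    have hge : ∀ m, 0 ≤ (C.v r m : ℝ) * z m := fun m =>
      mul_nonneg (by exact_mod_cast C.v_sign r hr m) (hz m)
    refine le_trans ?_ (Finset.single_le_sum (fun m _ => hge m) (Finset.mem_univ ⟨k, hk⟩))
    have h1 : (1 : ℤ) ≤ C.v r ⟨k, hk⟩ := by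
      have := C.v_sign r hr ⟨k, hk⟩
      have : C.v r ⟨k, hk⟩ ≠ 0 := fun h => hco ((co_eq_zero_iff C r _).2 h)
      omega
    rw [hzk, mul_one]
    exact_mod_cast h1
  have hq1 : (1 : ℝ) ≤ val C z q := by
    have : val C z q = val C z r + val C z (C.p i) := by
      have := val_combo C z (q := q) (r := r) (s := C.p i) (i := 1) (j := 1) (by rw [one_smul, one_smul, hq])
      simpa using this
    rw [this, val_p, hzi, add_zero]; exact hr1
  have h2 : A D i q = A D i r + A D i (C.p i) := by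
    rw [C.A_lin i q, C.A_lin i r, C.A_lin i (C.p i), ← Finset.sum_add_distrib]
    exact Finset.sum_congr rfl fun m _ => by rw [hq, Pi.add_apply, add_mul]
  rw [hA q hq1, hA r hr1, C.A_p] at h2
  omega

end Cfsg.Agent.Lib.ChevBorelTits
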