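import Cfsg.Agent.Lib.ChevBorelTits.ParabolicCharP
import Cfsg.Agent.Lib.Balance.Locals

/-!
The generalized Fitting subgroup of a proper parabolic is a p-group.
-/

set_option autoImplicit false
set_option linter.unusedSectionVars false

namespace Cfsg.Agent.Lib.ChevBorelTits

open Cfsg.Lie
open Cfsg.Agent.Lib.ChevStructure
open scoped MatrixGroups Matrix

variable {D : ChevalleyDatum} (C : Core D) (F : Type*) [Field F] [Fintype F]
include C

theorem centralizer_le_US (H : CommOK C) (hPar : ParHyp C F) (hL : LinkedTable D) (J : Set ℕ)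
    (hJ : ∃ i, i < D.rank ∧ i ∉ J) :
    D.parabolicSubgroup F J ⊓ Subgroup.centralizer (D.unipotentRadical F J : Set (GL D.Idx F)) ≤
      C.US F C.Pos := by
  classical
  intro g hg
  have hgB := centralizer_le_borel C F H hPar hL J hJ hg
  obtain ⟨u, hu, h, hh, rfl⟩ := C.mem_borel_iff.1 hgB
  obtain ⟨c, rfl⟩ := C.mem_diagonal_iff.1 hh
  set z := outJ C J with hzdef
  have hz := outJ_nonneg C J
  have hu0 := C.posUS_le_upperU hu
  have hroot : ∀ r, (1 : ℝ) ≤ val C z r → C.chA c r = 1 := by
    intro r hr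
    have hrp := pos_of_val_pos C hz (lt_of_lt_of_le one_pos hr)
    have hX : C.X F r 1 ∈ D.unipotentRadical F J := by
      rw [radical_eq C F J]; exact C.X_mem_US F (show r ∈ {s | (1 : ℝ) ≤ val C z s} from hr) 1
    have hcomm := Subgroup.mem_centralizer_iff.1 hg.2 _ hX
    have hh' : C.HT F c * C.X F r 1 = C.X F r (C.chA c r : F) * C.HT F c := by
      have h1 := C.HT_X_conj F c r (1 : F)
      rw [mul_one] at h1
      rw [← h1, inv_mul_cancel_right]
    have hfix : C.X F r 1 = u * C.X F r (C.chA c r : F) * u⁻¹ := by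
      rw [eq_mul_inv_iff_mul_eq, ← mul_right_cancel_iff (a := C.HT F c), mul_assoc, hcomm, mul_assoc, hh',
        mul_assoc]
    set w := (C.X F r (C.chA c r : F))⁻¹ * u * C.X F r (C.chA c r : F) * u⁻¹ with hw
    have hwU : w ∈ upperU F (fun a => 1 * C.fht a) (C.ht r) (C.ht_pos hrp).le := by
      have hmem : (C.X F r (C.chA c r : F))⁻¹ ∈ upperU F (fun a => 1 * C.fht a) (C.ht r - 1)
          (by have := C.ht_pos hrp; omega) := by
        rw [C.X_inv]
        exact C.X_mem_upperU F _ (σ := 1) (by omega) _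
      have := upperU_comm F _ _ hmem hu0
      simpa [hw, sub_add_cancel, inv_inv] using this
    have hone : ∀ j, (co D r j : F) * (C.chA c r : F) = (co D r j : F) * 1 := fun j => by
      rw [← C.coord_zero F hrp hwU (C.chA c r : F) j, ← C.coord_zero F hrp (g := 1) (one_mem _) (1 : F) j]
      have e1 : C.X F r (C.chA c r : F) * w = C.X F r 1 := by rw [hfix, hw]; group
      rw [mul_one, e1]
    apply Units.ext
    rw [Units.val_one]
    exact sub_eq_zero.1 (C.eq_zero_of_co_mul (k := r) F fun j => by rw [mul_sub, hone j, sub_self])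
  obtain ⟨k, hk, hkJ⟩ := hJ
  have hzk : z ⟨k, hk⟩ = 1 := by simp [hzdef, outJ, hkJ]
  have hsimple : ∀ j : Fin D.rank, C.chA c (C.p j) = 1 := by
    intro j
    by_cases hjJ : j.val ∈ J
    · have hzj : z j = 0 := (outJ_eq_zero C).2 hjJ
      have hjk : j ≠ ⟨k, hk⟩ := fun h => hkJ (by rw [h] at hjJ; exact hjJ)
      obtain ⟨r, hr, hco, hq⟩ := hL j ⟨k, hk⟩ hjk
      obtain ⟨q, hq⟩ := step_root C hq
      have hr1 : (1 : ℝ) ≤ val C z r := by
        have hge : ∀ m, 0 ≤ (C.v r m : ℝ) * z m := fun m =>
          mul_nonneg (by exact_mod_cast C.v_sign r hr m) (hz m)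
        refine le_trans ?_ (Finset.single_le_sum (fun m _ => hge m) (Finset.mem_univ ⟨k, hk⟩))
        have h1 : (1 : ℤ) ≤ C.v r ⟨k, hk⟩ := by
          have := C.v_sign r hr ⟨k, hk⟩
          have : C.v r ⟨k, hk⟩ ≠ 0 := fun h => hco ((co_eq_zero_iff C r _).2 h)
          omega
        rw [hzk, mul_one]
        exact_mod_cast h1
      have hq1 : (1 : ℝ) ≤ val C z q := by
        have : val C z q = val C z r + val C z (C.p j) := by
          have := val_combo C z (q := q) (r := r) (s := C.p j) (i := 1) (j := 1) (by rw [one_smul, one_smul, hq])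
          simpa using this
        rw [this, val_p, hzj, add_zero]; exact hr1
      have hmul : C.chA c q = C.chA c r * C.chA c (C.p j) := by
        simp only [Core.chA, ← Finset.prod_mul_distrib]
        refine Finset.prod_congr rfl fun m _ => ?_
        rw [← zpow_add, C.A_lin m q, C.A_lin m r, C.A_lin m (C.p j), ← Finset.sum_add_distrib]
        congr 1
        exact Finset.sum_congr rfl fun i _ => by rw [hq, Pi.add_apply, add_mul]
      rw [hroot q hq1, hroot r hr1, one_mul] at hmul
      exact hmul.symm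
    · exact hroot _ (by rw [val_p]; simp [hzdef, outJ, hjJ])
  have hT : C.HT F c = 1 := by
    rw [C.HT_eq_T, show (fun m => C.chA c (C.p m)) = 1 from funext hsimple]
    simp only [Core.T]
    rw [show C.chr F (1 : Fin D.rank → Fˣ) = 1 from funext fun s => by simp [Core.chr]]
    exact C.diag_one F
  rwa [hT, mul_one]

theorem isPGroup_fstar_parabolic (H : CommOK C) (hPar : ParHyp C F) (hL : LinkedTable D) (p : ℕ)
    [Fact p.Prime] [CharP F p] (J : Set ℕ) (hJ : ∃ i, i < D.rank ∧ i ∉ J) :
    IsPGroup p ↥(Cfsg.generalizedFittingSubgroup ↥(D.parabolicSubgroup F J)) := by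
  classical
  set P := D.parabolicSubgroup F J
  have hUS : IsPGroup p (C.US F C.Pos) := by
    obtain ⟨m, -, hm⟩ := FiniteField.card F p
    refine IsPGroup.of_card (n := m * (D.nroots / 2)) ?_
    rw [H.card_posUS, Nat.card_eq_fintype_card, hm, ← pow_mul]
  have hUJle : D.unipotentRadical F J ≤ P ⊓ C.US F C.Pos := by
    have h1 : D.unipotentRadical F J ≤ C.US F C.Pos := by
      rw [radical_eq C F J]; exact UF_le_pos C F (outJ_nonneg C J) one_pos
    exact le_inf (h1.trans (le_trans (by rw [C.borel_eq]; exact le_sup_left) (le_sup_left : D.borelSubgroup F ≤ P))) h1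
  have hPN : P ≤ Subgroup.normalizer (D.unipotentRadical F J : Set (GL D.Idx F)) := fun g hg => by
    rw [radical_eq C F J]
    exact Subgroup.mem_iInf.1 (parabolic_le_stab C F H J hg).2 ⟨1, one_pos⟩
  set Q := (D.unipotentRadical F J).subgroupOf P with hQ
  haveI hQn : Q.Normal :=
    (Subgroup.normal_subgroupOf_iff_le_normalizer (hUJle.trans inf_le_left)).2 hPN
  have hQp : IsPGroup p Q :=
    (hUS.to_le (hUJle.trans inf_le_right)).comap_of_injective P.subtype Subtype.val_injective
  set K := Subgroup.centralizer (Q : Set P) with hK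
  haveI hKn : K.Normal := by rw [hK]; infer_instance
  have hKp : IsPGroup p K := by
    refine IsPGroup.to_le (hUS.comap_of_injective P.subtype Subtype.val_injective) fun g hg => ?_
    refine centralizer_le_US C F H hPar hL J hJ ⟨g.2, ?_⟩
    show (g : GL D.Idx F) ∈ Subgroup.centralizer (D.unipotentRadical F J : Set (GL D.Idx F))
    rw [Subgroup.mem_centralizer_iff]
    intro u hu
    exact congrArg Subtype.val (Subgroup.mem_centralizer_iff.1 hg ⟨u, (hUJle hu).1⟩ hu)
  have hc : Subgroup.centralizer (Cfsg.pCore p P : Set P) ≤ Cfsg.pCore p P :=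
    (Subgroup.centralizer_le (Cores.le_pCore hQp)).trans (Cores.le_pCore hKp)
  rw [Balance.centralizer_pCore_le_iff.1 hc]
  exact Cores.pCore_isPGroup p

end Cfsg.Agent.Lib.ChevBorelTits
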