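import Cfsg.Agent.Lib.ChevBorelTits.Monomial
import Mathlib.GroupTheory.Sylow
import Mathlib.FieldTheory.Finite.Basic

/-!
U is a Sylow p-subgroup of a finite Chevalley group, given that the subgroups over B are parabolic.
-/

set_option autoImplicit false
set_option linter.unusedSectionVars false

namespace Cfsg.Agent.Lib.ChevBorelTits

open Cfsg.Lie
open Cfsg.Agent.Lib.ChevStructure
open scoped MatrixGroups Matrix

variable {D : ChevalleyDatum} (C : Core D) (F : Type*) [Field F]
include C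

/-- subgroups over B are generated by B and the P i they contain -/
def ParHyp : Prop :=
  ∀ M : Subgroup (GL D.Idx F), D.borelSubgroup F ≤ M → M ≤ D.group F →
    M ≤ D.parabolicSubgroup F {j : ℕ | ∃ h : j < D.rank, C.P F (⟨j, h⟩ : Fin D.rank) ∈ M}

/-- Bruhat existence -/
def BruHyp (_C : Core D) (F : Type*) [Field F] : Prop :=
  ∀ g ∈ D.group F, ∃ n ∈ D.monomialSubgroup F, ∃ b ∈ D.borelSubgroup F, ∃ b' ∈ D.borelSubgroup F,
    g = b * n * b'

theorem parabolic_mono {J K : Set ℕ} (h : J ⊆ K) :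
    D.parabolicSubgroup F J ≤ D.parabolicSubgroup F K := by
  unfold ChevalleyDatum.parabolicSubgroup
  refine sup_le_sup_left (Subgroup.closure_mono ?_) _
  rintro g ⟨j, hj, hr, hg⟩
  exact ⟨j, h hj, hr, hg⟩

theorem parabolic_empty : D.parabolicSubgroup F ∅ ≤ D.borelSubgroup F := by
  unfold ChevalleyDatum.parabolicSubgroup
  refine sup_le le_rfl ((Subgroup.closure_le _).2 ?_)
  rintro g ⟨j, hj, -⟩
  exact hj.elim

theorem p_pos (i : Fin D.rank) : C.p i ∈ C.Pos :=
  pos_of_val_pos C (z := fun _ => (1 : ℝ)) (fun _ => zero_le_one) (by rw [val_p]; exact one_pos)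

theorem P_not_mem_normalizer (i : Fin D.rank) {S : Set (Rt D)} (hS : S ⊆ C.Pos) (hi : C.p i ∈ S) :
    C.P F i ∉ Subgroup.normalizer (C.US F S : Set (GL D.Idx F)) := by
  intro hn
  have h := (Subgroup.mem_normalizer_iff.1 hn (C.X F (C.p i) 1)).1 (C.X_mem_US F hi 1)
  rw [C.P_X_conj, C.w_p, mul_one] at h
  have hneg : (C.p i).rev ∈ C.Neg := by
    rw [C.neg_iff_ht, C.ht_rev]
    have := C.ht_pos (p_pos C i)
    omega
  have hB : C.X F (C.p i).rev (C.η i (C.p i) : F) ∈ D.borelSubgroup F ⊓ C.US F C.Neg :=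
    ⟨by rw [C.borel_eq]; exact Subgroup.mem_sup_left (C.US_mono F hS h), C.X_mem_US F hneg _⟩
  rw [C.borel_inf_negUS, Subgroup.mem_bot] at hB
  have h0 := (C.x_eq_one_iff (C.p i).rev _).1 (congrArg Units.val hB)
  rw [C.η_p] at h0
  simp at h0

theorem normalizer_le_borel (hPar : ParHyp C F) :
    D.group F ⊓ Subgroup.normalizer (C.US F C.Pos : Set (GL D.Idx F)) ≤ D.borelSubgroup F := by
  have hB : D.borelSubgroup F ≤ D.group F ⊓ Subgroup.normalizer (C.US F C.Pos : Set (GL D.Idx F)) :=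
    le_inf (borel_le_group C F) (by
      rw [C.borel_eq]; exact sup_le Subgroup.le_normalizer (C.diag_le_normalizer _))
  refine le_trans (hPar _ hB inf_le_left) (le_trans (parabolic_mono C F ?_) (parabolic_empty C F))
  rintro j ⟨h, hP⟩
  exact (P_not_mem_normalizer C F ⟨j, h⟩ subset_rfl (p_pos C _) hP.2).elim

variable [Fintype F] (p : ℕ) [Fact p.Prime] [CharP F p]

theorem eq_one_of_mem_diag {h : GL D.Idx F} (hh : h ∈ D.diagonalSubgroup F) {k : ℕ} (hk : h ^ p ^ k = 1) :
    h = 1 := by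
  classical
  obtain ⟨c, rfl⟩ := C.mem_diagonal_iff.1 hh
  have e : ((C.HT F c : GL D.Idx F) : Matrix D.Idx D.Idx F) =
      Matrix.diagonal (Sum.elim (fun _ => (1 : F)) fun s => (C.chA c s : F)) := rfl
  have h1 := congrArg Units.val hk
  rw [Units.val_pow_eq_pow_val, e, Matrix.diagonal_pow, Units.val_one, ← Matrix.diagonal_one,
    Matrix.diagonal_eq_diagonal_iff] at h1
  apply Units.ext
  rw [e, Units.val_one, ← Matrix.diagonal_one, Matrix.diagonal_eq_diagonal_iff]
  intro a
  have h2 := h1 a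
  rw [Pi.pow_apply] at h2
  set x := Sum.elim (fun _ => (1 : F)) (fun s => (C.chA c s : F)) a
  have : (x - 1) ^ p ^ k = 0 := by rw [sub_pow_char_pow, h2, one_pow, sub_self]
  exact sub_eq_zero.1 ((pow_eq_zero_iff (pow_ne_zero k (Fact.out : p.Prime).ne_zero)).1 this)

theorem exists_conj_le_US (H : CommOK C) (hPar : ParHyp C F) (R : Subgroup (GL D.Idx F))
    (hR : R ≤ D.group F) (hp : IsPGroup p R) :
    ∃ g ∈ D.group F, R ≤ (C.US F C.Pos).map (MulAut.conj g).toMonoidHom := by
  classical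
  set G := D.group F
  haveI : Finite G := inferInstance
  set U := (C.US F C.Pos).subgroupOf G with hUdef
  have hUp : IsPGroup p U := by
    obtain ⟨m, -, hm⟩ := FiniteField.card F p
    refine IsPGroup.of_card (n := m * (D.nroots / 2)) ?_
    rw [Nat.card_congr (Subgroup.subgroupOfEquivOfLe (US_le_group C F _)).toEquiv, H.card_posUS,
      Nat.card_eq_fintype_card, hm, ← pow_mul]
  obtain ⟨S, hUS⟩ := hUp.exists_le_sylow
  have hSU : (S : Subgroup G) ≤ U := by
    by_contra hne
    haveI : Group.IsNilpotent (S : Subgroup G) := S.isPGroup'.isNilpotent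
    have hlt : U.subgroupOf (S : Subgroup G) < ⊤ := by
      rw [lt_top_iff_ne_top, Ne, Subgroup.subgroupOf_eq_top]
      exact hne
    obtain ⟨x, hxN, hxU⟩ := SetLike.exists_of_lt (Group.normalizerCondition_of_isNilpotent _ hlt)
    apply hxU
    have hxG : ((x : G) : GL D.Idx F) ∈ G ⊓ Subgroup.normalizer (C.US F C.Pos : Set (GL D.Idx F)) := by
      refine ⟨(x : G).2, ?_⟩
      show ((x : G) : GL D.Idx F) ∈ Subgroup.normalizer (C.US F C.Pos : Set (GL D.Idx F))
      rw [Subgroup.mem_normalizer_iff]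
      intro y
      have key : ∀ y ∈ C.US F C.Pos, ∀ z ∈ Subgroup.normalizer ((U.subgroupOf (S : Subgroup G)) : Set (S : Subgroup G)),
          ((z : G) : GL D.Idx F) * y * ((z : G) : GL D.Idx F)⁻¹ ∈ C.US F C.Pos := by
        intro y hy z hz
        have hyS : (⟨y, US_le_group C F _ hy⟩ : G) ∈ (S : Subgroup G) := hUS hy
        exact (Subgroup.mem_normalizer_iff.1 hz ⟨_, hyS⟩).1 hy
      refine ⟨fun hy => key y hy x hxN, fun hy => ?_⟩
      have := key _ hy x⁻¹ (inv_mem hxN)
      simpa [mul_assoc] using this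
    obtain ⟨u, hu, h, hh, e⟩ := C.mem_borel_iff.1 (normalizer_le_borel C F hPar hxG)
    have huS : (⟨u, US_le_group C F _ hu⟩ : G) ∈ (S : Subgroup G) := hUS hu
    obtain ⟨k, hk⟩ := S.isPGroup' ⟨_, mul_mem (inv_mem huS) x.2⟩
    have hk' := congrArg (fun t : (S : Subgroup G) => ((t : G) : GL D.Idx F)) hk
    simp only [SubgroupClass.coe_pow, Subgroup.coe_mul, Subgroup.coe_inv, OneMemClass.coe_one, e,
      inv_mul_cancel_left] at hk'
    rw [eq_one_of_mem_diag C F p hh hk', mul_one] at e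
    show ((x : G) : GL D.Idx F) ∈ C.US F C.Pos
    rw [e]; exact hu
  have hUS' : (S : Subgroup G) = U := le_antisymm hSU hUS
  obtain ⟨T, hT⟩ := (hp.comap_of_injective G.subtype Subtype.val_injective).exists_le_sylow
  obtain ⟨g, hg⟩ := MulAction.exists_smul_eq G S T
  refine ⟨g, g.2, fun r hr => ?_⟩
  have h1 : (⟨r, hR hr⟩ : G) ∈ (T : Subgroup G) := hT hr
  rw [← hg, Sylow.coe_subgroup_smul, hUS'] at h1
  rw [Subgroup.mem_pointwise_smul_iff_inv_smul_mem] at h1
  rw [Subgroup.mem_map_equiv]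
  exact h1

end Cfsg.Agent.Lib.ChevBorelTits
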